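import Groth.Agent.VarietyB.FlatH0

/-!
# Finiteness of global sections under flat base change
-/

set_option autoImplicit false
universe u
open CategoryTheory CategoryTheory.Limits AlgebraicGeometry Opposite TopologicalSpace TensorProduct

namespace K646.AmpleBC

open Groth.Agent.VarietyB.FlatH0 Groth.Agent.VarietyB.PullSec

variable {X Y S T : Scheme.{u}} {f : T ⟶ S} {g : Y ⟶ X} {iX : X ⟶ S} {iY : Y ⟶ T}

/-- Finiteness of `Γ(M)` over `Γ(O_X)` is preserved by flat base change of affine bases. -/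
theorem finite_of_bc (H : IsPullback g iY iX f) [Flat f] [IsAffine S] [IsAffine T] [CompactSpace X]
    [QuasiSeparatedSpace X] (M : X.Modules) (hM : Coh.IsQCoh M) (h : Module.Finite Γ(X, ⊤) Γ(M, ⊤)) :
    Module.Finite Γ(Y, ⊤) Γ((Scheme.Modules.pullback g).obj M, ⊤) := by
  have hUY : (⊤ : Y.Opens) = g ⁻¹ᵁ (⊤ : X.Opens) ⊓ iY ⁻¹ᵁ (⊤ : T.Opens) := by simp
  have hbc := isBC_of_isQuasiSeparated H M hM (US := ⊤) (UT := ⊤) (UX := ⊤) (UY := ⊤) (le_of_eq rfl)
    (le_of_eq rfl) hUY (le_of_eq rfl) (le_of_eq rfl) (isAffineOpen_top S) (isAffineOpen_top T)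
    isCompact_univ isQuasiSeparated_univ
  have hspan := hbc.span_eq_top
  obtain ⟨s, hs⟩ := h.fg_top
  let e : (⊤ : Y.Opens) ≤ g ⁻¹ᵁ (⊤ : X.Opens) := le_of_eq rfl
  let N : Submodule Γ(Y, ⊤) Γ((Scheme.Modules.pullback g).obj M, ⊤) :=
    Submodule.span Γ(Y, ⊤) (sec g M e '' (s : Set Γ(M, ⊤)))
  have h1 : ∀ m : Γ(M, ⊤), sec g M e m ∈ N := by
    intro m
    have hm : m ∈ Submodule.span Γ(X, ⊤) (s : Set Γ(M, ⊤)) := by rw [hs]; trivial
    induction hm using Submodule.span_induction with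
    | mem x hx => exact Submodule.subset_span ⟨x, hx, rfl⟩
    | zero => rw [map_zero]; exact zero_mem _
    | add x y _ _ hx hy => rw [map_add]; exact add_mem hx hy
    | smul a x _ hx => rw [sec_smul]; exact Submodule.smul_mem _ _ hx
  have h2 : N = ⊤ := by
    rw [Submodule.eq_top_iff']
    intro y
    have hy : y ∈ (letI := modOver iY ((Scheme.Modules.pullback g).obj M) (US := ⊤) (UX := ⊤) (le_of_eq rfl);
      Submodule.span Γ(T, ⊤) (Set.range (sec g M e))) := by
      rw [hspan]; trivial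
    let i1 := modOver iY ((Scheme.Modules.pullback g).obj M) (US := ⊤) (UX := ⊤) (le_of_eq rfl)
    induction hy using Submodule.span_induction with
    | mem x hx => obtain ⟨m, rfl⟩ := hx; exact h1 m
    | zero => exact zero_mem _
    | add x y _ _ hx hy => exact add_mem hx hy
    | smul a x _ hx => exact Submodule.smul_mem N (iY.appLE ⊤ ⊤ (le_of_eq rfl) a) hx
  refine ⟨?_⟩
  rw [← h2]
  exact Submodule.fg_span (s.finite_toSet.image _)

end K646.AmpleBC
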