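import Groth.Agent.AlgGrp.K407.TorsorDesc
import Groth.Agent.GrpSch.K86.NodePic
import Groth.Agent.AlgGrp.K407.RatCell
import Groth.Agent.AlgGrp.K410.Core
import Groth.Agent.Sga3B.RG.PbBorel

/-!
# Invertible modules on an anti-affine group come from the abelian variety quotient
-/

set_option autoImplicit false
universe u
open CategoryTheory Limits MonoidalCategory CartesianMonoidalCategory MonObj GrpObj AlgebraicGeometry
open Groth.Agent Groth.Agent.Grpsch.PicGrp Groth.Agent.Books.AffBridge

namespace K646.PicDown

variable {k : Type u} [Field k] [IsAlgClosed k]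

/-- Connected commutative linear groups over an algebraically closed field have trivial Picard group. -/
theorem pic_eq_one (N : Over (Spec (CommRingCat.of k))) [GrpObj N] [IsCommMonObj N] [Smooth N.hom]
    [ConnectedSpace N.left] [IsAffine N.left] (c : Pic N.left) : c = 1 := by
  obtain ⟨A, _, _, _, e, he, hft⟩ := K620.HopfSeq.exists_model N
  have := hft inferInstance
  have hint := K399.Basic.isIntegral N
  have hdom : IsDomain A := K399.HopfDom.isDomain_of_iso e
  have hcomm : ∀ x y : Sga3B.RG.Pt k A, x * y = y * x := fun x y => mul_comm x y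
  have hsol : Group.IsSolvable (Sga3B.RG.Pt k A) := Group.isSolvable_of_comm hcomm
  have hT : Sga3B.RG.Trig.IsTrig k A := Sga3B.RG.PbBorel.isTrig_of_isSolvable hsol
  obtain ⟨n, f, ⟨e'⟩⟩ := K407.RatCell.isLocPoly_of_isTrig hT
  let φ : N.left ⟶ Spec (CommRingCat.of (MvPolynomial (Fin n) k)) :=
    e.hom.left ≫ Spec.map (CommRingCat.ofHom (e'.symm.toRingEquiv.toRingHom)) ≫
      Spec.map (CommRingCat.ofHom (algebraMap (MvPolynomial (Fin n) k) (Localization.Away f)))
  have h1 : IsIso e.hom.left := inferInstanceAs (IsIso ((Over.forget _).map e.hom))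
  have h2 : IsIso (Spec.map (CommRingCat.ofHom (e'.symm.toRingEquiv.toRingHom))) := by
    have : IsIso (CommRingCat.ofHom (e'.symm.toRingEquiv.toRingHom)) :=
      (ConcreteCategory.isIso_iff_bijective _).2 e'.symm.toRingEquiv.bijective
    infer_instance
  have h3 : IsOpenImmersion (Spec.map (CommRingCat.ofHom (algebraMap (MvPolynomial (Fin n) k)
      (Localization.Away f)))) := Scheme.isOpenImmersion_SpecMap_localizationAway (R := .of (MvPolynomial (Fin n) k)) f
  have h2' : IsOpenImmersion (Spec.map (CommRingCat.ofHom (e'.symm.toRingEquiv.toRingHom))) :=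
    IsOpenImmersion.of_isIso _
  have h1' : IsOpenImmersion e.hom.left := IsOpenImmersion.of_isIso _
  have h4 : IsOpenImmersion φ := MorphismProperty.comp_mem (W := @IsOpenImmersion) _ _ h1'
    (MorphismProperty.comp_mem (W := @IsOpenImmersion) _ _ h2' h3)
  exact K395.PicRat.trivial_of_openImm φ c

/-- **Invertible modules on an anti-affine group come from the abelian variety quotient.** -/
theorem exists_down {N G A : Over (Spec (CommRingCat.of k))} [GrpObj N] [GrpObj G] [GrpObj A]
    [Smooth G.hom] [QuasiCompact G.hom] (i : N ⟶ G) (q : G ⟶ A) [IsMonHom i] [IsClosedImmersion i.left]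
    [IsAffine N.left] [Smooth N.hom] [ConnectedSpace N.left] [IsMonHom q] [Surjective q.left] [Flat q.left]
    (hk : AlgGrp.IsKernel i q) [IsProper A.hom] [Smooth A.hom] [ConnectedSpace A.left]
    (hG : IsIso G.hom.appTop) {L : G.left.Modules} (hL : PicF.IsInvertible L) :
    ∃ M : A.left.Modules, PicF.IsInvertible M ∧ Nonempty ((Scheme.Modules.pullback q.left).obj M ≅ L) := by
  have hb := (K414.AntiAffBC.bijective_iff G).2 hG
  obtain ⟨hconn, hcomm⟩ := S3293.result k G hb
  have hGi : IsIntegral G.left := K399.Basic.isIntegral G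
  have hm : Mono i := K414.Kit.mono_of_closed i
  have hNc : IsCommMonObj N := K399.CommSect.isCommMonObj_of_mono i
  have hqc : QuasiCompact q.left := K414.Kit.quasiCompact_left q
  have hsep : IsSeparated G.hom := Books.AntiAffine.isSeparated_hom G
  have hsq := K86.NodePic.isPullback_act (τ := i) (π := q) (fun {T'} x => by
    constructor
    · rintro ⟨y, rfl⟩
      exact K399.Quot.ker_comp hk y
    · intro hx
      exact K399.Quot.exists_lift_ker hk x hx)
  obtain ⟨b, hb'⟩ := K407.ActPic.exists_act N G (Groth.Agent.Sga4B.SmoothNormal.isNormalScheme_of_smooth G.hom)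
    (K86.NodePic.act i) (mk L hL)
  rw [pic_eq_one N b, map_one, _root_.one_mul] at hb'
  obtain ⟨d, hd⟩ := K407.TorsorDesc.exists_pull N G A (K86.NodePic.act i) q hsq 1 (mk L hL) hb'
  obtain ⟨M, hM, rfl⟩ := exists_mk d
  rw [pull_mk, mk_eq_iff] at hd
  exact ⟨M, hM, hd⟩

end K646.PicDown
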