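import Groth.Agent.AlgGrp.K646.AmpleBC
import Groth.Agent.AlgGrp.K646.PicDown
import Groth.Agent.AlgGrp.K414.AmpDown
import Groth.Agent.AlgGrp.K408.BcField
import Groth.Agent.Neron.K489.FieldBc
import Groth.Agent.Models2.AmplePull
import Groth.Agent.Ega2.QCohLocal

/-!
# The sections of an ample module on an anti-affine, not complete group
-/

set_option autoImplicit false
universe u
open CategoryTheory MonoidalCategory CartesianMonoidalCategory MonObj GrpObj AlgebraicGeometry Limits

namespace K646.Row77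

open Groth.Agent

/-- Finiteness of global sections only depends on the module up to isomorphism. -/
theorem finite_iso {X : Scheme.{u}} {M M' : X.Modules} (e : M ≅ M') (h : Module.Finite Γ(X, ⊤) Γ(M, ⊤)) :
    Module.Finite Γ(X, ⊤) Γ(M', ⊤) := by
  let φ : Γ(M, ⊤) →ₗ[Γ(X, ⊤)] Γ(M', ⊤) :=
    { toFun := e.hom.app ⊤
      map_add' := map_add _
      map_smul' := fun a m => Scheme.Modules.Hom.app_smul _ _ _ }
  refine Module.Finite.of_surjective φ fun y => ⟨e.inv.app ⊤ y, ?_⟩
  exact congrArg (fun φ : M' ⟶ M' => φ.app ⊤ y) e.inv_hom_id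

theorem over_closed {k : Type u} [Field k] [IsAlgClosed k] (G : Over (Spec (CommRingCat.of k))) [GrpObj G]
    [Smooth G.hom] [QuasiCompact G.hom] (hG : IsIso G.hom.appTop) (hnp : ¬ IsProper G.hom) (L : G.left.Modules)
    (hL : CohB1.IsAmple L) : ¬ Module.Finite Γ(G.left, ⊤) Γ(L, ⊤) := by
  obtain ⟨N, A, _, _, i, q, h1, h2, h3, h4, h5, h6, h7, h8, h9, h10, h11, h12, h13⟩ :=
    K410.Data.exists_data G hG hnp
  obtain ⟨M, hM, ⟨e⟩⟩ := PicDown.exists_down i q h9 hG hL.1
  have hMa : CohB1.IsAmple M := K414.AmpDown.isAmple_of_pull i q h9 hG hM (Models2.AmplePull.isAmple_of_iso e.symm hL)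
  intro hfin
  exact K410.Core.core i q h9 hG h13 hMa (finite_iso e.symm hfin)

theorem main (k : Type u) [Field k] (G : Over (Spec (CommRingCat.of k))) [GrpObj G] [Smooth G.hom]
    [QuasiCompact G.hom] (hG : IsIso G.hom.appTop) (hnp : ¬ IsProper G.hom) (L : G.left.Modules)
    (hL : CohB1.IsAmple L) : ¬ Module.Finite Γ(G.left, ⊤) Γ(L, ⊤) := by
  intro hfin
  let K := AlgebraicClosure k
  let f : Spec (CommRingCat.of K) ⟶ Spec (CommRingCat.of k) := Spec.map (CommRingCat.ofHom (algebraMap k K))
  have hf : Flat f := AlgGrp.K408.BcField.flat_spec _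
  have hsep : IsSeparated G.hom := Books.AntiAffine.isSeparated_hom G
  have hs : Smooth (Red.bc f G).hom := AlgGrp.K408.BcField.smooth_bc f G
  have hq : QuasiCompact (Red.bc f G).hom := AlgGrp.K408.BcField.quasiCompact_bc f G
  have hcomp : CompactSpace G.left := (quasiCompact_iff_compactSpace G.hom).1 inferInstance
  have hqs : QuasiSeparatedSpace G.left := (quasiSeparated_iff_quasiSeparatedSpace G.hom).1 inferInstance
  have hG' : IsIso (Red.bc f G).hom.appTop := (K414.AntiAffBC.isIso_iff G f).1 hG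
  have hnp' : ¬ IsProper (Red.bc f G).hom := fun h =>
    hnp (K489.FieldBc.isProper_of_bc f G inferInstance)
  have haf : IsAffineHom f := isAffineHom_of_isAffine f
  have haff : IsAffineHom (pullback.fst G.hom f) :=
    MorphismProperty.pullback_fst (P := @IsAffineHom) G.hom f haf
  have hfin' := AmpleBC.finite_of_bc (IsPullback.of_hasPullback G.hom f) L
    (Ega2.QCohLocal.isQCoh_of_isInvertible hL.1) hfin
  exact over_closed (Red.bc f G) hG' hnp' _ (Models2.AmplePull.isAmple_pullback (pullback.fst G.hom f) hL) hfin'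

end K646.Row77
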